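import Groth.Agent.SplitDiagLib.Cocycle
import Groth.Agent.HopfFF.Coinv
import Groth.Agent.HopfFF.Image
import Groth.Agent.Comodule.MultType
import Mathlib

/-! A normal diagonalizable subgroup with connected quotient is central. -/

set_option autoImplicit false
set_option backward.isDefEq.respectTransparency false
set_option synthInstance.maxHeartbeats 200000
set_option maxSynthPendingDepth 5
universe u

open TensorProduct WithConv

noncomputable section

namespace Groth.Agent.MultCentral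

variable {k : Type u} [Field k] {A : Type u} [CommRing A] [HopfAlgebra k A] {C : Type u} [CommRing C]
  [HopfAlgebra k C] {T : Type u} [CommRing T] [Algebra k T]

/-- Conjugation of points. -/
def conjW (g h : A →ₐ[k] T) : WithConv (A →ₐ[k] T) :=
  toConv g * toConv h * toConv (g.comp (HopfAlgebra.antipodeAlgHom k A))

theorem push {T' : Type u} [CommRing T'] [Algebra k T'] (φ : T →ₐ[k] T') (F G : WithConv (A →ₐ[k] T)) :
    toConv (φ.comp (F * G).ofConv) = toConv (φ.comp F.ofConv) * toConv (φ.comp G.ofConv) := by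
  rw [AlgHom.comp_convMul_distrib]

theorem push_conjW {T' : Type u} [CommRing T'] [Algebra k T'] (φ : T →ₐ[k] T') (g h : A →ₐ[k] T) :
    toConv (φ.comp (conjW g h).ofConv) = conjW (φ.comp g) (φ.comp h) := by
  simp only [conjW]
  rw [push, push]
  rfl

theorem inv_mul_pts (p q : A →ₐ[k] T) :
    toConv ((toConv p * toConv q).ofConv.comp (HopfAlgebra.antipodeAlgHom k A)) =
      toConv (q.comp (HopfAlgebra.antipodeAlgHom k A)) * toConv (p.comp (HopfAlgebra.antipodeAlgHom k A)) := by
  refine left_inv_eq_right_inv (HopfFF.comp_antipode_left (toConv p * toConv q).ofConv) ?_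
  show (toConv p * toConv q) * _ = 1
  rw [mul_assoc, ← mul_assoc (toConv q), HopfFF.comp_antipode_right, one_mul, HopfFF.comp_antipode_right]

theorem conjW_mul (g h₁ h₂ : A →ₐ[k] T) :
    conjW g (toConv h₁ * toConv h₂).ofConv = conjW g h₁ * conjW g h₂ := by
  simp only [conjW, mul_assoc]
  rw [← mul_assoc (toConv (g.comp _)) (toConv g), HopfFF.comp_antipode_left, one_mul, toConv_ofConv, mul_assoc]

/-- Points killing the kernel ideal are normalised by all points. -/
theorem conjW_vanish (ψ : C →ₐc[k] A) (J : Ideal A)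
    (hJ : J = Ideal.map (ψ : C →+* A) (RingHom.ker (Bialgebra.counitAlgHom k C))) (g h : A →ₐ[k] T)
    (hh : ∀ a ∈ J, h a = 0) : ∀ a ∈ J, (conjW g h).ofConv a = 0 := by
  let P : WithConv (A →ₐ[k] T) → WithConv (C →ₐ[k] T) := fun z => toConv (z.ofConv.comp (ψ : C →ₐ[k] A))
  have hP : ∀ x y, P (x * y) = P x * P y := fun x y =>
    WithConv.ofConv_injective (AlgHom.convMul_comp_bialgHom_distrib x y ψ)
  have hP1 : P (toConv h) = 1 := by
    refine WithConv.ofConv_injective (AlgHom.ext fun x => ?_)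
    rw [AlgHom.convOne_apply]
    show h (ψ x) = _
    have h0 := hh _ (hJ ▸ Ideal.mem_map_of_mem (ψ : C →+* A)
      (x := x - algebraMap k C (Coalgebra.counit (R := k) x)) (by simp [RingHom.mem_ker]))
    change h (ψ (x - algebraMap k C _)) = 0 at h0
    rw [map_sub, map_sub, AlgHomClass.commutes, AlgHom.commutes, sub_eq_zero] at h0
    exact h0
  intro a ha
  have hle : J ≤ RingHom.ker (conjW g h).ofConv := hJ.le.trans <| Ideal.map_le_iff_le_comap.mpr fun b hb => by
    show (P (conjW g h)).ofConv b = 0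
    rw [conjW, hP, hP, hP1, mul_one, ← hP, HopfFF.comp_antipode_right]
    show (1 : WithConv (A →ₐ[k] T)).ofConv (ψ b) = 0
    rw [AlgHom.convOne_apply, CoalgHomClass.counit_comp_apply ψ b]
    simp [show Coalgebra.counit (R := k) b = 0 from hb]
  exact RingHom.mem_ker.mp (hle ha)

/-- The image of a bialgebra map is a Hopf subalgebra. -/
theorem isHopfSub_range (ψ : C →ₐc[k] A) : HopfFF.IsHopfSub (k := k) (A := A) (ψ : C →ₐ[k] A).range := by
  constructor
  · rintro _ ⟨b, rfl⟩
    refine ⟨TensorProduct.map (ψ : C →ₐ[k] A).rangeRestrict.toLinearMap (ψ : C →ₐ[k] A).rangeRestrict.toLinearMap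
      (Coalgebra.comul (R := k) b), ?_⟩
    refine Eq.trans ?_ (CoalgHomClass.map_comp_comul_apply ψ b)
    induction Coalgebra.comul (R := k) b with
    | zero => simp
    | add p q hp hq => simp only [map_add, hp, hq]
    | tmul p q => simp
  · rintro _ ⟨b, rfl⟩
    exact ⟨HopfAlgebra.antipode k b, HopfFF.map_antipode' ψ b⟩

theorem le_span_range (ψ : C →ₐc[k] A) :
    Ideal.map (ψ : C →+* A) (RingHom.ker (Bialgebra.counitAlgHom k C)) ≤
      Ideal.span {b : A | b ∈ (ψ : C →ₐ[k] A).range ∧ Coalgebra.counit (R := k) b = 0} :=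
  Ideal.map_le_iff_le_comap.mpr fun b hb => Ideal.subset_span
    ⟨⟨b, rfl⟩, (CoalgHomClass.counit_comp_apply ψ b).trans hb⟩

section

variable (J : Ideal A) [J.IsHopfIdeal k]

/-- The quotient map as a map of algebras. -/
def piA : A →ₐ[k] A ⧸ J := Ideal.Quotient.mkₐ k J

/-- The right coaction of the subgroup. -/
def coinvMap : A →ₐ[k] A ⊗[k] (A ⧸ J) :=
  (Algebra.TensorProduct.map (AlgHom.id k A) (piA (k := k) J)).comp (Bialgebra.comulAlgHom k A)

theorem coinvMap_eq (a : A) :
    coinvMap (k := k) J a = (Ideal.Quotient.mkₐ k J).toLinearMap.lTensor A (Coalgebra.comul (R := k) a) := by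
  simp only [coinvMap, AlgHom.comp_apply, Bialgebra.comulAlgHom_apply]
  induction Coalgebra.comul (R := k) a with
  | zero => simp
  | add p q hp hq => simp only [map_add, hp, hq]
  | tmul p q => simp [piA]

theorem toConv_coinvMap : toConv (coinvMap (k := k) J) =
    toConv (Algebra.TensorProduct.includeLeft : A →ₐ[k] A ⊗[k] (A ⧸ J)) *
      toConv ((Algebra.TensorProduct.includeRight : (A ⧸ J) →ₐ[k] A ⊗[k] (A ⧸ J)).comp (piA (k := k) J)) := by
  refine WithConv.ofConv_injective (AlgHom.ext fun a => ?_)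
  rw [AlgHom.convMul_apply, ofConv_toConv]
  simp only [coinvMap, AlgHom.comp_apply, Bialgebra.comulAlgHom_apply]
  induction Coalgebra.comul (R := k) a with
  | zero => simp
  | add p q hp hq => simp only [map_add, hp, hq]
  | tmul p q => simp

theorem comm_pts [Coalgebra.IsCocomm k (A ⧸ J)] (f f' : (A ⧸ J) →ₐ[k] T) :
    toConv (f.comp (piA (k := k) J)) * toConv (f'.comp (piA (k := k) J)) = toConv (f'.comp (piA (k := k) J)) * toConv (f.comp (piA (k := k) J)) := by
  have e : ∀ p q : (A ⧸ J) →ₐ[k] T, toConv (p.comp (piA (k := k) J)) * toConv (q.comp (piA (k := k) J)) =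
      toConv ((toConv p * toConv q).ofConv.comp (piA (k := k) J)) := fun p q =>
    WithConv.ofConv_injective
      (AlgHom.convMul_comp_bialgHom_distrib (toConv p) (toConv q) (Bialgebra.Quotient.mkBialgHom (R := k) J)).symm
  rw [e, e, mul_comm]

theorem coord_eq_finsupp {M : Type u} [AddCommGroup M] [Module k M] {N : Type u} [AddCommGroup N] [Module k N]
    {ι : Type*} [DecidableEq ι] (e : Module.Basis ι k M) (z : M ⊗[k] N) (i : ι) :
    TensorProduct.equivFinsuppOfBasisLeft (N := N) e z i = TensorProduct.lid k N ((e.coord i).rTensor N z) := by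
  induction z with
  | zero => simp
  | add p q hp hq => simp only [map_add, Finsupp.add_apply, hp, hq]
  | tmul p q => simp

variable {T' : Type u} [CommRing T'] [Algebra k T']

theorem conv_pi (f₁ f₂ : (A ⧸ J) →ₐ[k] T') :
    toConv ((toConv f₁ * toConv f₂).ofConv.comp (piA (k := k) J)) =
      toConv (f₁.comp (piA (k := k) J)) * toConv (f₂.comp (piA (k := k) J)) :=
  WithConv.ofConv_injective
    (AlgHom.convMul_comp_bialgHom_distrib (toConv f₁) (toConv f₂) (Bialgebra.Quotient.mkBialgHom (R := k) J))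

/-- Conjugation is multiplicative in the subgroup. -/
theorem conj_mul_eval (g h : A →ₐ[k] T) (κ : (A ⧸ J) →ₐ[k] T)
    (hκ : (conjW g h).ofConv = κ.comp (piA (k := k) J)) (θ θ₁ θ₂ : T →ₐ[k] T') (f₁ f₂ : (A ⧸ J) →ₐ[k] T')
    (h₁ : θ₁.comp g = θ.comp g) (h₂ : θ₂.comp g = θ.comp g)
    (e : θ.comp h = ((Algebra.TensorProduct.lift f₁ f₂ fun _ _ => Commute.all _ _).comp
      (Bialgebra.comulAlgHom k (A ⧸ J))).comp (piA (k := k) J))
    (e₁ : θ₁.comp h = f₁.comp (piA (k := k) J)) (e₂ : θ₂.comp h = f₂.comp (piA (k := k) J))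
    {m : A ⧸ J} (hm : IsGroupLikeElem k m) : θ (κ m) = θ₁ (κ m) * θ₂ (κ m) := by
  obtain ⟨a, ha⟩ := Ideal.Quotient.mk_surjective m
  have e' : θ.comp h = (toConv (θ₁.comp h) * toConv (θ₂.comp h)).ofConv := by
    rw [e, e₁, e₂, ← conv_pi, ofConv_toConv]
    congr 1
    exact AlgHom.ext fun x => (AlgHom.convMul_apply (toConv f₁) (toConv f₂) x).symm
  have h1 : toConv (θ.comp (conjW g h).ofConv) =
      toConv (θ₁.comp (conjW g h).ofConv) * toConv (θ₂.comp (conjW g h).ofConv) := by
    rw [push_conjW, push_conjW, push_conjW, h₁, h₂, e', conjW_mul]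
  have h3 : toConv ((θ.comp κ).comp (piA (k := k) J)) =
      toConv ((toConv (θ₁.comp κ) * toConv (θ₂.comp κ)).ofConv.comp (piA (k := k) J)) := by
    rw [conv_pi]
    simpa only [hκ, AlgHom.comp_assoc] using h1
  have h2 := AlgHom.congr_fun (congrArg WithConv.ofConv h3) a
  simp only [ofConv_toConv, AlgHom.comp_apply, show piA (k := k) J a = m from ha] at h2
  rw [h2, AlgHom.convMul_apply, hm.comul_eq_tmul_self]
  simp

/-- Conjugation only depends on the coset. -/
theorem conj_coset_eval [Coalgebra.IsCocomm k (A ⧸ J)] (g h : A →ₐ[k] T) (κ : (A ⧸ J) →ₐ[k] T)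
    (hκ : (conjW g h).ofConv = κ.comp (piA (k := k) J)) (Θ Θ₀ : T →ₐ[k] T') (fl : (A ⧸ J) →ₐ[k] T')
    (f : A ⊗[k] (A ⧸ J) →ₐ[k] T') (e : Θ.comp h = fl.comp (piA (k := k) J))
    (e₀ : Θ₀.comp h = fl.comp (piA (k := k) J)) (eg : Θ.comp g = f.comp (coinvMap (k := k) J))
    (eg₀ : Θ₀.comp g = f.comp Algebra.TensorProduct.includeLeft) (m : A ⧸ J) : Θ (κ m) = Θ₀ (κ m) := by
  obtain ⟨a, ha⟩ := Ideal.Quotient.mk_surjective m
  let g₁ : A →ₐ[k] T' := f.comp Algebra.TensorProduct.includeLeft
  let h' : A →ₐ[k] T' := fl.comp (piA (k := k) J)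
  let h₂ : A →ₐ[k] T' := (f.comp Algebra.TensorProduct.includeRight).comp (piA (k := k) J)
  have hg' : Θ.comp g = (toConv g₁ * toConv h₂).ofConv := by
    rw [eg, show f.comp (coinvMap (k := k) J) = f.comp (toConv (coinvMap (k := k) J)).ofConv from rfl,
      toConv_coinvMap, ← ofConv_toConv (AlgHom.comp _ _), push]
    rfl
  have h1 : toConv (Θ.comp (conjW g h).ofConv) = toConv (Θ₀.comp (conjW g h).ofConv) := by
    rw [push_conjW, push_conjW, e, e₀, hg', eg₀, conjW, conjW, toConv_ofConv, inv_mul_pts]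
    simp only [mul_assoc]
    rw [← mul_assoc (toConv h₂) (toConv h'), show toConv h₂ * toConv h' = toConv h' * toConv h₂ from comm_pts J _ _,
      mul_assoc, ← mul_assoc (toConv h₂), HopfFF.comp_antipode_right, one_mul]
  have h2 := AlgHom.congr_fun (congrArg WithConv.ofConv h1) a
  simp only [ofConv_toConv, hκ, AlgHom.comp_apply, show piA (k := k) J a = m from ha] at h2
  exact h2

theorem comm_of_conj (g h : A →ₐ[k] T) (hW : conjW g h = toConv h) :
    toConv g * toConv h = toConv h * toConv g := by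
  conv_rhs => rw [← hW, conjW, mul_assoc, HopfFF.comp_antipode_left, mul_one]

variable (ψ : C →ₐc[k] A)

/-- The subgroup is central: conjugation is trivial. -/
theorem conj_central (hψ : Function.Injective ψ)
    (hJ : J = Ideal.map (ψ : C →+* A) (RingHom.ker (Bialgebra.counitAlgHom k C)))
    (hD : HopfRep.IsDiagonalizable k (A ⧸ J)) (hC : ∀ e : C, IsIdempotentElem e → e = 0 ∨ e = 1) (a : A) :
    (conjW (Algebra.TensorProduct.includeRight : A →ₐ[k] (A ⧸ J) ⊗[k] A)
      ((Algebra.TensorProduct.includeLeft : (A ⧸ J) →ₐ[k] (A ⧸ J) ⊗[k] A).comp (piA (k := k) J))).ofConv a =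
        piA (k := k) J a ⊗ₜ[k] (1 : A) := by
  classical
  haveI := Comodule.isCocomm_of_diag hD
  let g : A →ₐ[k] (A ⧸ J) ⊗[k] A := Algebra.TensorProduct.includeRight
  let h : A →ₐ[k] (A ⧸ J) ⊗[k] A := (Algebra.TensorProduct.includeLeft : (A ⧸ J) →ₐ[k] (A ⧸ J) ⊗[k] A).comp (piA (k := k) J)
  let W := conjW g h
  have hvan : ∀ x ∈ J, W.ofConv x = 0 := conjW_vanish ψ J hJ g h fun x hx => by
    show (piA (k := k) J x) ⊗ₜ[k] (1 : A) = 0
    rw [show piA (k := k) J x = 0 from Ideal.Quotient.eq_zero_iff_mem.mpr hx, TensorProduct.zero_tmul]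
  let κ : (A ⧸ J) →ₐ[k] (A ⧸ J) ⊗[k] A := Ideal.Quotient.liftₐ J W.ofConv hvan
  have hκ : ∀ x : A, κ (piA (k := k) J x) = W.ofConv x := fun x => rfl
  suffices H : ∀ x : (A ⧸ J), κ x = x ⊗ₜ[k] (1 : A) by
    show W.ofConv a = _
    rw [← hκ, H]
  intro x
  let b := SplitDiag.glBasis hD
  suffices HG : ∀ i : {m : (A ⧸ J) // IsGroupLikeElem k m}, κ i.1 = i.1 ⊗ₜ[k] (1 : A) by
    have : κ.toLinearMap = (TensorProduct.mk k (A ⧸ J) A).flip 1 := b.ext fun i => by
      rw [SplitDiag.glBasis_apply]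
      exact HG i
    exact LinearMap.congr_fun this x
  intro i
  obtain ⟨a₀, ha₀⟩ := Ideal.Quotient.mk_surjective i.1
  have ha₀' : piA (k := k) J a₀ = i.1 := ha₀
  -- the coordinates are idempotent
  have hidem : ∀ j, IsIdempotentElem (TensorProduct.lid k A ((b.coord j).rTensor A (κ i.1))) := by
    intro j
    letI : CommRing (((A ⧸ J) ⊗[k] (A ⧸ J)) ⊗[k] A) := Algebra.TensorProduct.instCommRing
    let θ : (A ⧸ J) ⊗[k] A →ₐ[k] ((A ⧸ J) ⊗[k] (A ⧸ J)) ⊗[k] A :=
      Algebra.TensorProduct.map (Bialgebra.comulAlgHom k (A ⧸ J)) (AlgHom.id k A)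
    let θ₁ : (A ⧸ J) ⊗[k] A →ₐ[k] ((A ⧸ J) ⊗[k] (A ⧸ J)) ⊗[k] A :=
      Algebra.TensorProduct.map Algebra.TensorProduct.includeLeft (AlgHom.id k A)
    let θ₂ : (A ⧸ J) ⊗[k] A →ₐ[k] ((A ⧸ J) ⊗[k] (A ⧸ J)) ⊗[k] A :=
      Algebra.TensorProduct.map Algebra.TensorProduct.includeRight (AlgHom.id k A)
    have key : θ (κ i.1) = θ₁ (κ i.1) * θ₂ (κ i.1) := by
      refine conj_mul_eval J g h κ (AlgHom.ext fun x => (hκ x).symm) θ θ₁ θ₂
        ((Algebra.TensorProduct.includeLeft : (A ⧸ J) ⊗[k] (A ⧸ J) →ₐ[k] _).comp Algebra.TensorProduct.includeLeft)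
        ((Algebra.TensorProduct.includeLeft : (A ⧸ J) ⊗[k] (A ⧸ J) →ₐ[k] _).comp Algebra.TensorProduct.includeRight)
        (AlgHom.ext fun x => ?_) (AlgHom.ext fun x => ?_) (AlgHom.ext fun x => ?_) (AlgHom.ext fun x => ?_)
        (AlgHom.ext fun x => ?_) i.2
      · simp [θ, θ₁, g, Algebra.TensorProduct.one_def]
      · simp [θ, θ₂, g, Algebra.TensorProduct.one_def]
      · simp only [θ, h, AlgHom.comp_apply, Algebra.TensorProduct.includeLeft_apply, Algebra.TensorProduct.map_tmul,
          Bialgebra.comulAlgHom_apply, AlgHom.id_apply]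
        induction Coalgebra.comul (R := k) (piA (k := k) J x) with
        | zero => simp
        | add p q hp hq => simp only [map_add, TensorProduct.add_tmul, hp, hq]
        | tmul p q => simp
      · simp [θ₁, h, Algebra.TensorProduct.one_def]
      · simp [θ₂, h, Algebra.TensorProduct.one_def]
    let δ := b.coord j
    let F : (A ⧸ J) ⊗[k] (A ⧸ J) →ₗ[k] k := LinearMap.mul' k k ∘ₗ TensorProduct.map δ δ
    have hFΔ : F ∘ₗ (Coalgebra.comul (R := k) (A := (A ⧸ J))) = δ := b.ext fun l => by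
      rw [LinearMap.comp_apply, SplitDiag.glBasis_apply, l.2.comul_eq_tmul_self]
      simp only [F, LinearMap.comp_apply, TensorProduct.map_tmul, LinearMap.mul'_apply, δ, Module.Basis.coord_apply,
        b, SplitDiag.repr_groupLike]
      split_ifs <;> ring
    have e1 : ∀ z : (A ⧸ J) ⊗[k] A, TensorProduct.lid k A (F.rTensor A (θ z)) = TensorProduct.lid k A (δ.rTensor A z) := by
      intro z
      induction z with
      | zero => simp
      | add p q hp hq => simp only [map_add, hp, hq]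
      | tmul p q =>
        simp only [θ, Algebra.TensorProduct.map_tmul, Bialgebra.comulAlgHom_apply, AlgHom.id_apply,
          LinearMap.rTensor_tmul]
        rw [← LinearMap.comp_apply F, hFΔ]
    have e2 : ∀ z w : (A ⧸ J) ⊗[k] A, TensorProduct.lid k A (F.rTensor A (θ₁ z * θ₂ w)) =
        TensorProduct.lid k A (δ.rTensor A z) * TensorProduct.lid k A (δ.rTensor A w) := by
      intro z w
      induction z with
      | zero => simp only [map_zero, zero_mul]
      | add p q hp hq => rw [map_add θ₁, add_mul, map_add, map_add, hp, hq, map_add, map_add, add_mul]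
      | tmul p q =>
        induction w with
        | zero => simp only [map_zero, mul_zero]
        | add r s hr hs => rw [map_add θ₂, mul_add, map_add, map_add, hr, hs, map_add, map_add, mul_add]
        | tmul r s => simp [θ₁, θ₂, F, smul_smul, mul_comm]
    show _ * _ = _
    rw [← e2, ← key, e1]
  -- the coordinates are invariant
  have hinv : ∀ j, TensorProduct.lid k A ((b.coord j).rTensor A (κ i.1)) ∈ (ψ : C →ₐ[k] A).range := by
    intro j
    refine HopfFF.mem_of_right_coinv (isHopfSub_range ψ) (hJ.le.trans (le_span_range ψ)) ?_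
    letI : CommRing ((A ⧸ J) ⊗[k] (A ⊗[k] (A ⧸ J))) := Algebra.TensorProduct.instCommRing
    let Θ : (A ⧸ J) ⊗[k] A →ₐ[k] (A ⧸ J) ⊗[k] (A ⊗[k] (A ⧸ J)) := Algebra.TensorProduct.map (AlgHom.id k (A ⧸ J)) (coinvMap (k := k) J)
    let Θ₀ : (A ⧸ J) ⊗[k] A →ₐ[k] (A ⧸ J) ⊗[k] (A ⊗[k] (A ⧸ J)) :=
      Algebra.TensorProduct.map (AlgHom.id k (A ⧸ J)) Algebra.TensorProduct.includeLeft
    have h2 : Θ (κ i.1) = Θ₀ (κ i.1) := by
      refine conj_coset_eval J g h κ (AlgHom.ext fun x => (hκ x).symm) Θ Θ₀ Algebra.TensorProduct.includeLeft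
        Algebra.TensorProduct.includeRight (AlgHom.ext fun x => ?_) (AlgHom.ext fun x => ?_) (AlgHom.ext fun x => ?_)
        (AlgHom.ext fun x => ?_) i.1
      · simp [Θ, h, Algebra.TensorProduct.one_def]
      · simp [Θ₀, h, Algebra.TensorProduct.one_def]
      · simp [Θ, g]
      · simp [Θ₀, g]
    have nat : ∀ (Φ : A →ₐ[k] A ⊗[k] (A ⧸ J)) (z : (A ⧸ J) ⊗[k] A), TensorProduct.lid k (A ⊗[k] (A ⧸ J))
        ((b.coord j).rTensor (A ⊗[k] (A ⧸ J)) (Algebra.TensorProduct.map (AlgHom.id k (A ⧸ J)) Φ z)) =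
        Φ (TensorProduct.lid k A ((b.coord j).rTensor A z)) := by
      intro Φ z
      induction z with
      | zero => simp
      | add p q hp hq => simp only [map_add, hp, hq]
      | tmul p q => simp
    rw [← coinvMap_eq, ← nat (coinvMap (k := k) J), h2, nat]
    rfl
  have hcounit : ∀ j, Coalgebra.counit (R := k) (TensorProduct.lid k A ((b.coord j).rTensor A (κ i.1))) =
      b.coord j i.1 := by
    intro j
    let φ : (A ⧸ J) ⊗[k] A →ₐ[k] (A ⧸ J) := Algebra.TensorProduct.lift (AlgHom.id k (A ⧸ J))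
      ((Algebra.ofId k (A ⧸ J)).comp (Bialgebra.counitAlgHom k A)) fun _ _ => Commute.all _ _
    have h1 : toConv (φ.comp W.ofConv) = toConv (piA (k := k) J) := by
      rw [push_conjW, conjW]
      have hgS : ∀ f : A →ₐ[k] (A ⧸ J), f = (1 : WithConv (A →ₐ[k] (A ⧸ J))).ofConv →
          toConv f = 1 ∧ toConv (f.comp (HopfAlgebra.antipodeAlgHom k A)) = 1 := by
        intro f hf
        subst hf
        refine ⟨toConv_ofConv _, ?_⟩
        have := HopfFF.comp_antipode_left (1 : WithConv (A →ₐ[k] (A ⧸ J))).ofConv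
        rwa [toConv_ofConv, mul_one] at this
      obtain ⟨e1, e2⟩ := hgS (φ.comp g) (AlgHom.ext fun x => by
        simp [φ, g, AlgHom.convOne_apply])
      rw [e1, e2, one_mul, mul_one]
      exact congrArg toConv (AlgHom.ext fun x => by simp [φ, h])
    have h2 : φ (κ i.1) = i.1 := by
      rw [← ha₀', hκ]
      exact AlgHom.congr_fun (congrArg WithConv.ofConv h1) a₀
    have nat : ∀ z : (A ⧸ J) ⊗[k] A, b.coord j (φ z) =
        Coalgebra.counit (R := k) (TensorProduct.lid k A ((b.coord j).rTensor A z)) := by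
      intro z
      induction z with
      | zero => simp
      | add p q hp hq => simp only [map_add, hp, hq]
      | tmul p q =>
        simp only [φ, Algebra.TensorProduct.lift_tmul, AlgHom.id_apply, AlgHom.comp_apply, Bialgebra.counitAlgHom_apply,
          Algebra.ofId_apply, ← Algebra.commutes, ← Algebra.smul_def, map_smul, LinearMap.rTensor_tmul,
          TensorProduct.lid_tmul, smul_eq_mul]
        ring
    rw [← nat, h2]
  refine (TensorProduct.equivFinsuppOfBasisLeft (N := A) b).injective (Finsupp.ext fun j => ?_)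
  rw [coord_eq_finsupp, coord_eq_finsupp, LinearMap.rTensor_tmul, TensorProduct.lid_tmul]
  obtain ⟨c, hc⟩ := hinv j
  have hc' : IsIdempotentElem c := hψ (by
    show ψ (c * c) = ψ c
    rw [map_mul]
    have := hidem j
    rw [← hc] at this
    exact this)
  have hεc : Coalgebra.counit (R := k) c = b.coord j i.1 := by
    rw [← CoalgHomClass.counit_comp_apply ψ c, ← hcounit j, ← hc]
    rfl
  rw [← hc]
  show ψ c = _
  rcases hC c hc' with rfl | rfl
  · rw [map_zero] at hεc ⊢
    rw [← hεc, zero_smul]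
  · rw [map_one, ← hεc, Bialgebra.counit_one, one_smul]

/-- Functionals of the central subgroup commute with all functionals. -/
theorem central (hψ : Function.Injective ψ)
    (hJ : J = Ideal.map (ψ : C →+* A) (RingHom.ker (Bialgebra.counitAlgHom k C)))
    (hD : HopfRep.IsDiagonalizable k (A ⧸ J)) (hC : ∀ e : C, IsIdempotentElem e → e = 0 ∨ e = 1)
    (p : (A ⧸ J) →ₗ[k] k) (f : WithConv (A →ₗ[k] k)) :
    toConv (p ∘ₗ (piA (k := k) J).toLinearMap) * f = f * toConv (p ∘ₗ (piA (k := k) J).toLinearMap) := by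
  let g : A →ₐ[k] (A ⧸ J) ⊗[k] A := Algebra.TensorProduct.includeRight
  let h : A →ₐ[k] (A ⧸ J) ⊗[k] A := (Algebra.TensorProduct.includeLeft : (A ⧸ J) →ₐ[k] _).comp (piA (k := k) J)
  have hW : conjW g h = toConv h := WithConv.ofConv_injective (AlgHom.ext fun a => conj_central J ψ hψ hJ hD hC a)
  have hgh := comm_of_conj g h hW
  refine WithConv.ofConv_injective (LinearMap.ext fun a => ?_)
  let L : (A ⧸ J) ⊗[k] A →ₗ[k] k := LinearMap.mul' k k ∘ₗ TensorProduct.map p f.ofConv
  have h1 := congrArg L (AlgHom.congr_fun (congrArg WithConv.ofConv hgh) a)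
  rw [AlgHom.convMul_apply, AlgHom.convMul_apply] at h1
  rw [LinearMap.convMul_def, LinearMap.convMul_def]
  simp only [LinearMap.comp_apply, ofConv_toConv]
  refine Eq.trans ?_ (h1.symm.trans ?_) <;>
  · induction Coalgebra.comul (R := k) a with
    | zero => simp
    | add x y hx hy => simp only [map_add, hx, hy]
    | tmul x y => simp [L, g, h, mul_comm]

end

end Groth.Agent.MultCentral
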