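import Groth.Agent.MultCentralLib.Retract
import Groth.Agent.CommUnipLib.Main
import Groth.Agent.Comodule.Unipotent
import Groth.Agent.OneDimLib.Descent
import Groth.Agent.RedTensor.Basic
import Groth.Agent.MultType.InsepDescent
import Groth.Agent.TrigSepLib.Main
import Groth.Agent.S9407
import Mathlib

/-! The retraction onto a smooth connected unipotent quotient, over a perfect field. -/

set_option autoImplicit false
set_option backward.isDefEq.respectTransparency false
set_option synthInstance.maxHeartbeats 200000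
universe u

open TensorProduct WithConv

noncomputable section

namespace Groth.Agent.MultCentral

variable {k : Type u} [Field k]

theorem diag_algClosure_of_multTypeConst {C : Type u} [CommRing C] [HopfAlgebra k C] (h : SGA3b.IsMultTypeConst k C) :
    HopfRep.IsDiagonalizable (AlgebraicClosure k) (AlgebraicClosure k ⊗[k] C) := by
  refine (Comodule.diag_algClosure_iff k C).mpr ⟨?_, CommUnip.primitive_eq_zero_of_multType h⟩
  obtain ⟨R', _, _, _, hD⟩ := h
  haveI : Nontrivial R' := (FaithfulSMul.algebraMap_injective k R').nontrivial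
  obtain ⟨m, hm⟩ := Ideal.exists_maximal R'
  letI := Ideal.Quotient.field m
  obtain ⟨M, _, ⟨e⟩⟩ := MultType.isDiag_tensor (R' ⧸ m) hD
  have hdiag : HopfRep.IsDiagonalizable (R' ⧸ m) ((R' ⧸ m) ⊗[k] C) := TrigSep.diag_of_isDiag
    ⟨M, inferInstance, ⟨(MultType.cbc (R := k) (A := C) R' (R' ⧸ m)).symm.trans e⟩⟩
  haveI := Comodule.isCocomm_of_diag hdiag
  exact Comodule.isCocomm_of_baseChange (R' ⧸ m)

theorem mem_range_of_fixed [PerfectField k] {K : Type u} [Field K] [Algebra k K] [IsGalois k K] {t : K}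
    (h : ∀ σ : K ≃ₐ[k] K, σ t = t) : t ∈ Set.range (algebraMap k K) :=
  (InfiniteGalois.mem_range_algebraMap_iff_fixed t).mpr h

theorem exists_of_fixed [PerfectField k] {V : Type u} [CommRing V] [Algebra k V] (x : AlgebraicClosure k ⊗[k] V)
    (h : ∀ σ : AlgebraicClosure k ≃ₐ[k] AlgebraicClosure k,
      Algebra.TensorProduct.map (σ : AlgebraicClosure k →ₐ[k] AlgebraicClosure k) (AlgHom.id k V) x = x) :
    ∃ v : V, (1 : AlgebraicClosure k) ⊗ₜ[k] v = x := by
  classical
  let K := AlgebraicClosure k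
  let e := Module.Basis.ofVectorSpace k V
  let B := Algebra.TensorProduct.basis K e
  have hc : ∀ i, B.repr x i ∈ Set.range (algebraMap k K) := fun i => mem_range_of_fixed fun σ => by
    have h1 := MultType.coord_map (σ : K →ₐ[k] K) e x i
    rw [h σ] at h1
    exact h1.symm
  choose c hc using hc
  refine ⟨∑ i ∈ (B.repr x).support, c i • e i, ?_⟩
  conv_rhs => rw [← B.linearCombination_repr x, Finsupp.linearCombination_apply, Finsupp.sum]
  rw [TensorProduct.tmul_sum]
  refine Finset.sum_congr rfl fun i _ => ?_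
  rw [← hc i, algebraMap_smul, TensorProduct.tmul_smul, Algebra.TensorProduct.basis_apply]

variable {A C : Type u} [CommRing A] [HopfAlgebra k A] [CommRing C] [HopfAlgebra k C]

theorem main [PerfectField k] [Algebra.FiniteType k C] [Algebra.FormallySmooth k C]
    (hC : HopfRep.IsUnipotent k C) (ψ : C →ₐc[k] A) (hψ : Function.Injective ψ) (J : Ideal A) [J.IsHopfIdeal k]
    (hJ : J = Ideal.map (ψ : C →+* A) (RingHom.ker (Bialgebra.counitAlgHom k C)))
    (hH : SGA3b.IsMultTypeConst k (A ⧸ J)) (hU : ∀ e : C, IsIdempotentElem e → e = 0 ∨ e = 1) :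
    ∃! r : A →ₐc[k] C, r.comp ψ = BialgHom.id k C := by
  let K := AlgebraicClosure k
  haveI : Algebra.FinitePresentation k C := Algebra.FinitePresentation.of_finiteType.mp inferInstance
  haveI : Algebra.Smooth k C := ⟨inferInstance, inferInstance⟩
  haveI : IsReduced C := S9407.result k C
  haveI : IsReduced (K ⊗[k] C) := RedTensor.isReduced_tensor k K C
  haveI : IsNoetherianRing (K ⊗[k] C) := Algebra.FiniteType.isNoetherianRing K _
  have hconn := OneDimLib.idempotent_baseChange (K := K) (Bialgebra.counitAlgHom k C) hU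
  have hUK : HopfRep.IsUnipotent K (K ⊗[k] C) := (Comodule.unipotent_baseChange_iff (K := K)).mp hC
  let ψK : K ⊗[k] C →ₐc[K] K ⊗[k] A := TrigSep.bcHom K ψ
  have hψK : Function.Injective ψK := fun x y h => by
    rw [TrigSep.bcHom_apply, TrigSep.bcHom_apply] at h
    exact Module.Flat.lTensor_preserves_injective_linearMap (M := K) _ hψ h
  let JK : Ideal (K ⊗[k] A) := Ideal.map (ψK : K ⊗[k] C →+* K ⊗[k] A)
    (RingHom.ker (Bialgebra.counitAlgHom K (K ⊗[k] C)))
  haveI : JK.IsHopfIdeal K := TrigSep.isHopfIdeal_map ψK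
  have hDK : HopfRep.IsDiagonalizable K ((K ⊗[k] A) ⧸ JK) := by
    let p : K ⊗[k] A →ₐc[K] K ⊗[k] (A ⧸ J) := TrigSep.bcHom K (Bialgebra.Quotient.mkBialgHom (R := k) J)
    have hp : Function.Surjective p := fun y => by
      obtain ⟨x, hx⟩ := LinearMap.lTensor_surjective K
        (g := ((Bialgebra.Quotient.mkBialgHom (R := k) J : A →ₐc[k] A ⧸ J) : A →ₗ[k] A ⧸ J))
        Ideal.Quotient.mk_surjective y
      exact ⟨x, (TrigSep.bcHom_apply K _ x).trans hx⟩
    have hker : ∀ x, p x = 0 → Bialgebra.Quotient.mkBialgHom (R := K) JK x = 0 := by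
      intro x hx
      have hx' : x ∈ RingHom.ker (Algebra.TensorProduct.map (AlgHom.id k K) (Ideal.Quotient.mkₐ k J)) := by
        rw [RingHom.mem_ker, ← hx, TrigSep.bcHom_apply]
        rfl
      rw [Algebra.TensorProduct.lTensor_ker _ Ideal.Quotient.mk_surjective] at hx'
      refine Ideal.Quotient.eq_zero_iff_mem.mpr (Ideal.map_le_iff_le_comap.mpr ?_ hx')
      refine (Ideal.Quotient.mkₐ_ker k J).le.trans (hJ.le.trans (Ideal.map_le_iff_le_comap.mpr fun b hb => ?_))
      show (1 : K) ⊗ₜ[k] ψ b ∈ JK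
      have h1 : (1 : K) ⊗ₜ[k] b ∈ RingHom.ker (Bialgebra.counitAlgHom K (K ⊗[k] C)) := by
        rw [RingHom.mem_ker]
        show Coalgebra.counit (R := K) ((1 : K) ⊗ₜ[k] b) = 0
        rw [TensorProduct.counit_tmul, show Coalgebra.counit (R := k) b = 0 from hb, zero_smul]
      have h2 := Ideal.mem_map_of_mem (ψK : K ⊗[k] C →+* K ⊗[k] A) h1
      rwa [show (ψK : K ⊗[k] C →+* K ⊗[k] A) ((1 : K) ⊗ₜ[k] b) = (1 : K) ⊗ₜ[k] ψ b from
        (TrigSep.bcHom_apply K ψ _).trans (LinearMap.lTensor_tmul _ _ _ _)] at h2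
    obtain ⟨g, hg⟩ := TrigSep.exists_factor p hp (Bialgebra.Quotient.mkBialgHom (R := K) JK) hker
    refine top_le_iff.mp fun y _ => ?_
    obtain ⟨x, rfl⟩ := Ideal.Quotient.mk_surjective y
    rw [show Ideal.Quotient.mk JK x = g (p x) from (hg x).symm]
    have hmem : p x ∈ Submodule.span K {z | IsGroupLikeElem K z} := by
      rw [diag_algClosure_of_multTypeConst hH]; trivial
    refine (Submodule.map_span_le (g : K ⊗[k] (A ⧸ J) →ₗ[K] _) _ _).mpr ?_ (Submodule.mem_map_of_mem hmem)
    exact fun z hz => Submodule.subset_span (IsGroupLikeElem.map g hz)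
  obtain ⟨hgen, rK, hrψ, hrg⟩ := exists_retraction_algClosed ψK hψK JK rfl hDK hconn hUK
  let Sσ : (K ≃ₐ[k] K) → (K ⊗[k] A →ₐ[k] K ⊗[k] A) := fun σ =>
    Algebra.TensorProduct.map (σ : K →ₐ[k] K) (AlgHom.id k A)
  let Tσ : (K ≃ₐ[k] K) → (K ⊗[k] C →ₐ[k] K ⊗[k] C) := fun σ =>
    Algebra.TensorProduct.map (σ : K →ₐ[k] K) (AlgHom.id k C)
  have hequiv : ∀ σ z, rK (Sσ σ z) = Tσ σ (rK z) := by
    intro σ z
    have hz : z ∈ Submodule.span K {a : K ⊗[k] A | ∃ c g, IsGroupLikeElem K g ∧ a = ψK c * g} := by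
      rw [hgen]; trivial
    induction hz using Submodule.span_induction with
    | mem a ha =>
      obtain ⟨c, g, hg, rfl⟩ := ha
      have e1 : Sσ σ (ψK c) = ψK (Tσ σ c) := by
        clear hg
        induction c with
        | zero => simp
        | add p q hp hq => simp only [map_add, hp, hq]
        | tmul p q => simp [Sσ, Tσ, ψK, TrigSep.bcHom_apply]
      rw [map_mul, e1, map_mul, map_mul, hrg g hg, hrg _ (MultType.isGroupLikeElem_map (σ : K →ₐ[k] K) hg), mul_one,
        mul_one, show rK (ψK (Tσ σ c)) = Tσ σ c from DFunLike.congr_fun hrψ _,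
        show rK (ψK c) = c from DFunLike.congr_fun hrψ _]
    | zero => simp
    | add p q _ _ hp hq => simp only [map_add, hp, hq]
    | smul t p _ hp =>
      rw [Algebra.smul_def, map_mul, map_mul, map_mul, hp, show Sσ σ (algebraMap K (K ⊗[k] A) t) =
        algebraMap K (K ⊗[k] A) (σ t) by simp [Sσ, Algebra.TensorProduct.algebraMap_apply],
        AlgHomClass.commutes, AlgHomClass.commutes]
      simp [Tσ, Algebra.TensorProduct.algebraMap_apply]
  have hex : ∀ a : A, ∃ c : C, (1 : K) ⊗ₜ[k] c = rK ((1 : K) ⊗ₜ[k] a) := fun a =>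
    exists_of_fixed _ fun σ => by
      show Tσ σ _ = _
      rw [← hequiv, show Sσ σ ((1 : K) ⊗ₜ[k] a) = (1 : K) ⊗ₜ[k] a by simp [Sσ]]
  choose r hr using hex
  have hinc : Function.Injective fun c : C => (1 : K) ⊗ₜ[k] c :=
    Algebra.TensorProduct.includeRight_injective (R := k) (A := K) (B := C) (RingHom.injective _)
  let rA : A →ₐ[k] C :=
    { toFun := r
      map_one' := hinc (by simp only; rw [hr, ← Algebra.TensorProduct.one_def, map_one]; rfl)
      map_mul' := fun x y => hinc (by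
        simp only
        rw [hr, show (1 : K) ⊗ₜ[k] (r x * r y) = ((1 : K) ⊗ₜ[k] r x) * ((1 : K) ⊗ₜ[k] r y) by
          rw [Algebra.TensorProduct.tmul_mul_tmul, one_mul], hr, hr, ← map_mul, Algebra.TensorProduct.tmul_mul_tmul,
          one_mul])
      map_zero' := hinc (by simp only; rw [hr, TensorProduct.tmul_zero, map_zero, TensorProduct.tmul_zero])
      map_add' := fun x y => hinc (by
        simp only
        rw [hr, TensorProduct.tmul_add, TensorProduct.tmul_add, map_add, hr, hr])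
      commutes' := fun t => hinc (by
        simp only
        rw [hr, Algebra.algebraMap_eq_smul_one, Algebra.algebraMap_eq_smul_one, TensorProduct.tmul_smul,
          TensorProduct.tmul_smul, ← algebraMap_smul K t, map_smul, ← Algebra.TensorProduct.one_def, map_one,
          algebraMap_smul, Algebra.TensorProduct.one_def]) }
  have hrA : ∀ a, (1 : K) ⊗ₜ[k] rA a = rK ((1 : K) ⊗ₜ[k] a) := hr
  have hinc2 : Function.Injective fun z : C ⊗[k] C => (1 : K) ⊗ₜ[k] z :=
    Algebra.TensorProduct.includeRight_injective (R := k) (A := K) (B := C ⊗[k] C) (RingHom.injective _)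
  let rr : A →ₐc[k] C := BialgHom.ofAlgHom rA
    (AlgHom.ext fun a => (algebraMap k K).injective (by
      have h1 := CoalgHomClass.counit_comp_apply rK ((1 : K) ⊗ₜ[k] a)
      rw [← hrA, TensorProduct.counit_tmul, TensorProduct.counit_tmul, CommSemiring.counit_apply,
        ← Algebra.algebraMap_eq_smul_one, ← Algebra.algebraMap_eq_smul_one] at h1
      exact h1))
    (AlgHom.ext fun a => hinc2 (by
      have h1 := CoalgHomClass.map_comp_comul_apply rK ((1 : K) ⊗ₜ[k] a)
      rw [← hrA] at h1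
      rw [Comodule.comul_baseChange_eq, Comodule.comul_baseChange_eq, LinearMap.baseChange_tmul,
        LinearMap.baseChange_tmul] at h1
      have e : ∀ y : A ⊗[k] A, TensorProduct.map (rK : K ⊗[k] A →ₗ[K] K ⊗[k] C) (rK : K ⊗[k] A →ₗ[K] K ⊗[k] C)
          (TensorProduct.AlgebraTensorModule.distribBaseChange k K A A ((1 : K) ⊗ₜ[k] y)) =
          TensorProduct.AlgebraTensorModule.distribBaseChange k K C C
            ((1 : K) ⊗ₜ[k] Algebra.TensorProduct.map rA rA y) := by
        intro y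
        induction y with
        | zero => simp
        | add p q hp hq => simp only [TensorProduct.tmul_add, map_add, hp, hq]
        | tmul p q =>
          show rK ((1 : K) ⊗ₜ[k] p) ⊗ₜ[K] rK ((1 : K) ⊗ₜ[k] q) = _
          rw [← hrA, ← hrA]
          rfl
      rw [e] at h1
      exact (LinearEquiv.injective _ h1)))
  have hrr : rr.comp ψ = BialgHom.id k C := BialgHom.ext fun c => hinc (by
    show (1 : K) ⊗ₜ[k] rA (ψ c) = (1 : K) ⊗ₜ[k] c
    rw [hrA, show (1 : K) ⊗ₜ[k] ψ c = ψK ((1 : K) ⊗ₜ[k] c) from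
      ((TrigSep.bcHom_apply K ψ _).trans (LinearMap.lTensor_tmul _ _ _ _)).symm]
    exact DFunLike.congr_fun hrψ _)
  refine ⟨rr, hrr, fun r' hr' => BialgHom.ext fun a => hinc ?_⟩
  show (1 : K) ⊗ₜ[k] r' a = (1 : K) ⊗ₜ[k] rA a
  rw [hrA, show (1 : K) ⊗ₜ[k] r' a = TrigSep.bcHom K r' ((1 : K) ⊗ₜ[k] a) from
    ((TrigSep.bcHom_apply K r' _).trans (LinearMap.lTensor_tmul _ _ _ _)).symm]
  refine LinearMap.congr_fun (f := (TrigSep.bcHom K r' : K ⊗[k] A →ₗ[K] K ⊗[k] C))
    (g := (rK : K ⊗[k] A →ₗ[K] K ⊗[k] C)) (LinearMap.ext_on hgen ?_) _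
  rintro _ ⟨c, g, hg, rfl⟩
  show TrigSep.bcHom K r' (ψK c * g) = rK (ψK c * g)
  rw [map_mul, map_mul, hrg g hg, groupLike_eq_one hUK (hg.map (TrigSep.bcHom K r')),
    show rK (ψK c) = c from DFunLike.congr_fun hrψ c]
  congr 1
  clear hg
  induction c with
  | zero => simp
  | add p q hp hq => simp only [map_add, hp, hq]
  | tmul p q =>
    simp only [ψK, TrigSep.bcHom_apply, LinearMap.lTensor_tmul]
    exact congrArg _ (DFunLike.congr_fun hr' q)

end Groth.Agent.MultCentral
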