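import Groth.Agent.MultCentralLib.Trig
import Groth.Agent.CommUnipLib.Sub
import Groth.Agent.LieKolchin.TrigDiag
import Groth.Agent.TrigSepLib.Quot
import Groth.Agent.Comodule.Extra
import Groth.Agent.Comodule.SubStruct
import Mathlib

/-! The retraction onto a smooth connected unipotent quotient with central diagonalizable kernel. -/

set_option autoImplicit false
set_option backward.isDefEq.respectTransparency false
set_option synthInstance.maxHeartbeats 200000
universe u

open TensorProduct WithConv

noncomputable section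

namespace Groth.Agent.MultCentral

open Groth.Agent.Comodule

variable {k : Type u} [Field k] {A : Type u} [CommRing A] [HopfAlgebra k A] {C : Type u} [CommRing C]
  [HopfAlgebra k C]

theorem groupLike_eq_one (hU : HopfRep.IsUnipotent k C) {c : C} (hc : IsGroupLikeElem k c) : c = 1 := by
  obtain ⟨n, hn⟩ := isUnipotent_iff_fil.mp hU c
  exact CommUnip.groupLike_eq_one_of_mem_fil hc hn

theorem mid_cancel {T : Type u} [CommRing T] [Algebra k T] (F : WithConv (A →ₐ[k] T)) (H : A →ₐ[k] T)
    (G : WithConv (A →ₐ[k] T)) :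
    F * toConv H * (toConv (H.comp (HopfAlgebra.antipodeAlgHom k A)) * G) = F * G := by
  rw [mul_assoc, ← mul_assoc (toConv H), HopfFF.comp_antipode_right, one_mul]

section

variable (J : Ideal A) [J.IsHopfIdeal k]

theorem conv_pi_lin (p p' : (A ⧸ J) →ₗ[k] k) :
    toConv (p ∘ₗ (piA (k := k) J).toLinearMap) * toConv (p' ∘ₗ (piA (k := k) J).toLinearMap) =
      toConv ((toConv p * toConv p').ofConv ∘ₗ (piA (k := k) J).toLinearMap) := by
  refine WithConv.ofConv_injective (LinearMap.ext fun a => ?_)
  rw [LinearMap.convMul_def, LinearMap.convMul_def]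
  simp only [LinearMap.comp_apply, ofConv_toConv]
  rw [show Coalgebra.comul (R := k) ((piA (k := k) J).toLinearMap a) =
    TensorProduct.map (piA (k := k) J).toLinearMap (piA (k := k) J).toLinearMap (Coalgebra.comul (R := k) a) from rfl]
  congr 1
  induction Coalgebra.comul (R := k) a with
  | zero => simp
  | add x y hx hy => simp only [map_add, hx, hy]
  | tmul x y => simp

/-- Twisting the identity by a retraction onto the subgroup gives invariant functions. -/
theorem coinv_twist (f : A →ₐc[k] A) (hf : ∀ a, piA (k := k) J (f a) = piA (k := k) J a) (a : A) :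
    coinvMap (k := k) J
        ((toConv (AlgHom.id k A) * toConv ((f : A →ₐ[k] A).comp (HopfAlgebra.antipodeAlgHom k A))).ofConv a) =
      (toConv (AlgHom.id k A) * toConv ((f : A →ₐ[k] A).comp (HopfAlgebra.antipodeAlgHom k A))).ofConv a ⊗ₜ[k] 1 := by
  let Φ : A →ₐ[k] A ⊗[k] (A ⧸ J) := coinvMap (k := k) J
  let inL : A →ₐ[k] A ⊗[k] (A ⧸ J) := Algebra.TensorProduct.includeLeft
  let r := (toConv (AlgHom.id k A) * toConv ((f : A →ₐ[k] A).comp (HopfAlgebra.antipodeAlgHom k A))).ofConv
  let hR : A →ₐ[k] A ⊗[k] (A ⧸ J) :=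
    (Algebra.TensorProduct.includeRight : (A ⧸ J) →ₐ[k] _).comp (piA (k := k) J)
  have hΦf : Φ.comp (f : A →ₐ[k] A) = (toConv (inL.comp (f : A →ₐ[k] A)) * toConv hR).ofConv := by
    show (toConv (coinvMap (k := k) J)).ofConv.comp (f : A →ₐ[k] A) = _
    rw [toConv_coinvMap, AlgHom.convMul_comp_bialgHom_distrib]
    congr 2
    exact congrArg toConv (AlgHom.ext fun x => by simp [hR, hf])
  have key : toConv (Φ.comp r) = toConv (inL.comp r) := by
    simp only [r]
    rw [push, push, ofConv_toConv, ofConv_toConv, AlgHom.comp_id, AlgHom.comp_id, ← AlgHom.comp_assoc, hΦf,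
      inv_mul_pts, ← AlgHom.comp_assoc]
    show toConv (coinvMap (k := k) J) * _ = _
    rw [toConv_coinvMap]
    show toConv inL * toConv hR * (toConv (hR.comp _) * _) = _
    exact mid_cancel _ _ _
  exact AlgHom.congr_fun (congrArg WithConv.ofConv key) a

end

variable [IsAlgClosed k]

theorem exists_lift (ψ : C →ₐc[k] A) (hψ : Function.Injective ψ) (J : Ideal A) [J.IsHopfIdeal k]
    (hJ : J = Ideal.map (ψ : C →+* A) (RingHom.ker (Bialgebra.counitAlgHom k C)))
    (hD : HopfRep.IsDiagonalizable k (A ⧸ J)) (hC : ∀ e : C, IsIdempotentElem e → e = 0 ∨ e = 1) [IsReduced C]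
    (hU : HopfRep.IsUnipotent k C) {χ : A ⧸ J} (hχ : IsGroupLikeElem k χ) :
    ∃ g : A, IsGroupLikeElem k g ∧ piA (k := k) J g = χ := by
  classical
  let π := piA (k := k) J
  let b := SplitDiag.glBasis hD
  let p : (A ⧸ J) →ₗ[k] k := b.coord ⟨χ, hχ⟩
  let P : WithConv (A →ₗ[k] k) := toConv (p ∘ₗ π.toLinearMap)
  have hp : ∀ h : (A ⧸ J) →ₗ[k] k, (toConv h * toConv p).ofConv = h χ • p := fun h => b.ext fun l => by
    rw [SplitDiag.glBasis_apply, LinearMap.convMul_def]
    simp only [ofConv_toConv, LinearMap.comp_apply, l.2.comul_eq_tmul_self, TensorProduct.map_tmul,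
      LinearMap.mul'_apply, LinearMap.smul_apply, smul_eq_mul, p, Module.Basis.coord_apply, b,
      SplitDiag.repr_groupLike hD]
    split_ifs with h1 <;> simp [h1]
  let Y : Submodule (WithConv (A →ₗ[k] k)) A :=
    { carrier := {v | ∀ h : (A ⧸ J) →ₗ[k] k, toConv (h ∘ₗ π.toLinearMap) • v = h χ • v}
      add_mem' := fun {v w} hv hw h => by rw [smul_add, hv h, hw h, smul_add]
      zero_mem' := fun h => by rw [smul_zero, smul_zero]
      smul_mem' := fun f v hv h => by
        rw [← mul_smul, central J ψ hψ hJ hD hC h f, mul_smul, hv h, smul_comm] }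
  obtain ⟨a₀, ha₀⟩ := Ideal.Quotient.mk_surjective χ
  set a' := P • a₀ with ha'
  have hY : a' ∈ Y := fun h => by
    rw [ha', ← mul_smul, conv_pi_lin, hp, show (h χ • p) ∘ₗ π.toLinearMap = h χ • (p ∘ₗ π.toLinearMap) from rfl,
      toConv_smul, smul_assoc]
  have hπa' : π a' = χ := by
    have h1 := CommUnip.smul_map (Bialgebra.Quotient.mkBialgHom (R := k) J : A →ₐc[k] A ⧸ J) (toConv p) a₀
    refine (h1.symm.trans ?_ : π a' = χ)
    rw [show (Bialgebra.Quotient.mkBialgHom (R := k) J : A →ₐc[k] A ⧸ J) a₀ = χ from ha₀,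
      CommUnip.smul_groupLike hχ]
    show p χ • χ = χ
    rw [show p χ = b.repr χ ⟨χ, hχ⟩ from rfl, SplitDiag.repr_groupLike hD ⟨χ, hχ⟩, if_pos rfl, one_smul]
  have hne : a' ≠ 0 := fun h => hχ.ne_zero (by rw [← hπa', h, map_zero])
  haveI := finite_span_singleton (k := k) (C := A) a'
  obtain ⟨S, hSle, hS⟩ := exists_simple_le (N := Submodule.span (WithConv (A →ₗ[k] k)) {a'}) (by
    rw [Ne, Submodule.span_singleton_eq_bot]
    exact hne)
  haveI : Module.Finite k (S.restrictScalars k) :=
    Submodule.finiteDimensional_of_le (S₂ := (Submodule.span (WithConv (A →ₗ[k] k)) {a'}).restrictScalars k) hSle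
  let W : Submodule k A := S.restrictScalars k
  have hW : HopfRep.IsSubcomod (k := k) (A := A) W := isSubcomod_restrictScalars _
  letI := subComod W hW
  have hval : ∀ (f : WithConv (A →ₗ[k] k)) (x : W), ((f • x : W) : A) = f • (x : A) := fun f x => by
    rw [smul_def, smul_def, dact, dact, LinearMap.comp_apply, LinearMap.comp_apply, ← rTensor_subCoact W hW x,
      rcon_rTensor]
    rfl
  have hsimple : HopfRep.IsSimpleComod k A W := by
    haveI := hS
    haveI : Nontrivial S := IsSimpleModule.nontrivial (WithConv (A →ₗ[k] k)) S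
    refine ⟨inferInstanceAs (Nontrivial S), fun U hUsub => ?_⟩
    rcases atom_cases (k := k) (C := A) hS (W' := U.map W.subtype) (isSubcomod_iff.mpr (by
        rintro f _ ⟨x, hx, rfl⟩
        exact ⟨f • x, isSubcomod_iff.mp hUsub f x hx, hval f x⟩)) (by rintro _ ⟨x, -, rfl⟩; exact x.2) with h | h
    · left
      exact Submodule.map_injective_of_injective W.subtype_injective (h.trans (Submodule.map_bot _).symm)
    · right
      exact Submodule.map_injective_of_injective W.subtype_injective
        (h.trans (by rw [Submodule.map_top, Submodule.range_subtype]))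
  have h1 := trig_of_central ψ hψ J hJ hD hC hU W inferInstance hsimple
  obtain ⟨v, hv0, hv⟩ := finrank_eq_one_iff'.mp h1
  obtain ⟨φ, hφ⟩ := exists_dual_eq_one (k := k) hv0
  set g : A := coefMap (C := A) φ v with hg
  have heig : ∀ f : WithConv (A →ₗ[k] k), f • v = f.ofConv g • v := by
    intro f
    obtain ⟨c, hc⟩ := hv (f • v)
    rw [hg, coefMap_apply, apply_lcon, ← hc, map_smul, hφ, smul_eq_mul, mul_one]
  have hco : HopfRep.Comod.coact (k := k) (A := A) v = v ⊗ₜ[k] g := ext_rcon fun f => by
    rw [rcon_tmul]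
    exact heig (toConv f)
  refine ⟨g, groupLike_of_eigen hv0 hco, ?_⟩
  have hvY : (v : A) ∈ Y := (Submodule.span_le.mpr (Set.singleton_subset_iff.mpr hY)) (hSle v.2)
  rw [← sub_eq_zero]
  refine (Module.forall_dual_apply_eq_zero_iff k _).mp fun h => ?_
  rw [map_sub, sub_eq_zero]
  have h2 := hvY h
  rw [← hval, heig, SetLike.val_smul] at h2
  exact smul_left_injective k (fun h0 => hv0 (Subtype.ext h0)) h2

theorem lift_unique (ψ : C →ₐc[k] A) (hψ : Function.Injective ψ) (J : Ideal A) [J.IsHopfIdeal k]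
    (hJ : J = Ideal.map (ψ : C →+* A) (RingHom.ker (Bialgebra.counitAlgHom k C)))
    (hU : HopfRep.IsUnipotent k C) {g g' : A} (hg : IsGroupLikeElem k g) (hg' : IsGroupLikeElem k g')
    (h : piA (k := k) J g = piA (k := k) J g') : g = g' := by
  set x := g * HopfAlgebra.antipode k g' with hx
  have hxgl : IsGroupLikeElem k x := hg.mul hg'.antipode
  have hπx : piA (k := k) J x = 1 := by
    rw [hx, map_mul, h, ← map_mul, hg'.mul_antipode_cancel, map_one]
  have hmem : x ∈ (ψ : C →ₐ[k] A).range := by
    refine HopfFF.mem_of_right_coinv (isHopfSub_range ψ) (hJ.le.trans (le_span_range ψ)) ?_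
    rw [hxgl.comul_eq_tmul_self, LinearMap.lTensor_tmul]
    exact congrArg _ hπx
  obtain ⟨c, hc⟩ := hmem
  have hc1 : c = 1 := groupLike_eq_one hU (TrigSep.isGroupLikeElem_of_injective ψ hψ (by
    rw [show ψ c = x from hc]; exact hxgl))
  rw [hc1, map_one] at hc
  calc g = g * (HopfAlgebra.antipode k g' * g') := by rw [hg'.antipode_mul_cancel, mul_one]
    _ = g' := by rw [← mul_assoc, ← hx, ← hc, one_mul]

/-- The retraction over an algebraically closed field. -/
theorem exists_retraction_algClosed (ψ : C →ₐc[k] A) (hψ : Function.Injective ψ) (J : Ideal A) [J.IsHopfIdeal k]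
    (hJ : J = Ideal.map (ψ : C →+* A) (RingHom.ker (Bialgebra.counitAlgHom k C)))
    (hD : HopfRep.IsDiagonalizable k (A ⧸ J)) (hC : ∀ e : C, IsIdempotentElem e → e = 0 ∨ e = 1) [IsReduced C]
    (hU : HopfRep.IsUnipotent k C) :
    Submodule.span k {a : A | ∃ c g, IsGroupLikeElem k g ∧ a = ψ c * g} = ⊤ ∧
      ∃ r : A →ₐc[k] C, r.comp ψ = BialgHom.id k C ∧ ∀ g, IsGroupLikeElem k g → r g = 1 := by
  classical
  let π := piA (k := k) J
  let p : MonoidAlgebra k (GroupLike k A) →ₐc[k] A ⧸ J :=
    (Bialgebra.Quotient.mkBialgHom (R := k) J).comp (LieKolchin.TrigDiag.charMap k A)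
  have hp1 : ∀ g c, p (MonoidAlgebra.single g c) = c • π (g : A) := fun g c => by
    show π (LieKolchin.TrigDiag.charMap k A (MonoidAlgebra.single g c)) = _
    rw [LieKolchin.TrigDiag.charMap_single, map_smul]
  have hgl : ∀ g : GroupLike k A, IsGroupLikeElem k (π (g : A)) := fun g =>
    g.isGroupLikeElem_val.map (Bialgebra.Quotient.mkBialgHom (R := k) J : A →ₐc[k] A ⧸ J)
  have hsurj : Function.Surjective p := by
    intro y
    have hy : y ∈ Submodule.span k {m : A ⧸ J | IsGroupLikeElem k m} := by rw [hD]; trivial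
    induction hy using Submodule.span_induction with
    | mem m hm =>
      obtain ⟨g, hg, hgm⟩ := exists_lift ψ hψ J hJ hD hC hU hm
      exact ⟨MonoidAlgebra.single ⟨g, hg⟩ 1, by rw [hp1, one_smul]; exact hgm⟩
    | zero => exact ⟨0, map_zero _⟩
    | add x y _ _ hx hy =>
      obtain ⟨a, rfl⟩ := hx
      obtain ⟨b, rfl⟩ := hy
      exact ⟨a + b, map_add _ _ _⟩
    | smul c x _ hx =>
      obtain ⟨a, rfl⟩ := hx
      exact ⟨c • a, map_smul _ _ _⟩
  have hinj : Function.Injective p := by
    have hli : LinearIndependent k fun g : GroupLike k A => π (g : A) := by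
      have hf : Function.Injective fun g : GroupLike k A => (⟨π (g : A), hgl g⟩ : {m : A ⧸ J // IsGroupLikeElem k m}) :=
        fun g g' h => GroupLike.ext (lift_unique ψ hψ J hJ hU g.isGroupLikeElem_val g'.isGroupLikeElem_val
          (congrArg Subtype.val h))
      exact ((linearIndepOn_isGroupLikeElem (R := k) (A := A ⧸ J)).linearIndependent.comp _ hf)
    intro x y h
    have e : ∀ z : MonoidAlgebra k (GroupLike k A),
        p z = Finsupp.linearCombination k (fun g : GroupLike k A => π (g : A)) z.coeff := by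
      intro z
      induction z using MonoidAlgebra.induction_linear with
      | zero => simp
      | add a b ha hb => simp [map_add, ha, hb]
      | single g c => simp [hp1]
    rw [e, e] at h
    exact MonoidAlgebra.coeff_injective (hli h)
  obtain ⟨s, hs⟩ := TrigSep.exists_factor p hsurj (LieKolchin.TrigDiag.charMap k A) fun x hx => by
    rw [hinj (hx.trans (map_zero p).symm), map_zero]
  let f : A →ₐc[k] A := s.comp (Bialgebra.Quotient.mkBialgHom (R := k) J)
  have hπf : ∀ a, π (f a) = π a := fun a => by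
    obtain ⟨x, hx⟩ := hsurj (π a)
    show π (s (π a)) = π a
    rw [← hx, hs]
    rfl
  have hfg : ∀ g, IsGroupLikeElem k g → f g = g := fun g hg => by
    show s (π g) = g
    rw [show π g = p (MonoidAlgebra.single ⟨g, hg⟩ 1) by rw [hp1, one_smul], hs, LieKolchin.TrigDiag.charMap_single,
      one_smul]
  let G : Submodule k A := Submodule.span k {a : A | ∃ c g, IsGroupLikeElem k g ∧ a = ψ c * g}
  let r₀ := (toConv (AlgHom.id k A) * toConv ((f : A →ₐ[k] A).comp (HopfAlgebra.antipodeAlgHom k A))).ofConv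
  have hr₀g : ∀ g, IsGroupLikeElem k g → r₀ g = 1 := fun g hg => by
    show (toConv (AlgHom.id k A) * toConv ((f : A →ₐ[k] A).comp (HopfAlgebra.antipodeAlgHom k A))).ofConv g = 1
    rw [AlgHom.convMul_apply, hg.comul_eq_tmul_self, Algebra.TensorProduct.lift_tmul]
    show g * f (HopfAlgebra.antipode k g) = 1
    rw [hfg _ hg.antipode, hg.mul_antipode_cancel]
  have hr₀ψ : ∀ c, r₀ (ψ c) = ψ c := fun c => by
    have hπψ : ∀ d, π (ψ d) = algebraMap k (A ⧸ J) (Coalgebra.counit (R := k) d) := fun d => by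
      rw [← sub_eq_zero, ← AlgHom.commutes π, ← map_sub, ← AlgHomClass.commutes ψ, ← map_sub]
      exact Ideal.Quotient.eq_zero_iff_mem.mpr (hJ ▸ Ideal.mem_map_of_mem (ψ : C →+* A) (by simp [RingHom.mem_ker]))
    show (toConv (AlgHom.id k A) * _).ofConv (ψ c) = _
    rw [AlgHom.convMul_apply, ← CoalgHomClass.map_comp_comul_apply ψ c]
    have e : ∀ z : C ⊗[k] C, Algebra.TensorProduct.lift (AlgHom.id k A)
        ((f : A →ₐ[k] A).comp (HopfAlgebra.antipodeAlgHom k A)) (fun _ _ => Commute.all _ _)
        (TensorProduct.map (ψ : C →ₗ[k] A) (ψ : C →ₗ[k] A) z) =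
        ψ (TensorProduct.rid k C ((Coalgebra.counit (R := k) (A := C)).lTensor C z)) := by
      intro z
      induction z with
      | zero => simp
      | add x y hx hy => simp only [map_add, hx, hy]
      | tmul x y =>
        simp only [TensorProduct.map_tmul, Algebra.TensorProduct.lift_tmul, LinearMap.lTensor_tmul,
          TensorProduct.rid_tmul, map_smul, AlgHom.comp_apply, HopfAlgebra.antipodeAlgHom_apply, AlgHom.id_apply]
        show ψ x * s (π (HopfAlgebra.antipode k (ψ y))) = _
        rw [← HopfFF.map_antipode' ψ y, hπψ, HopfAlgebra.counit_antipode, AlgHomClass.commutes, ← Algebra.commutes,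
          ← Algebra.smul_def]
    refine (e _).trans ?_
    rw [Coalgebra.lTensor_counit_comul, TensorProduct.rid_tmul, one_smul]
  have hrange : ∀ a, r₀ a ∈ (ψ : C →ₐ[k] A).range := fun a =>
    HopfFF.mem_of_right_coinv (isHopfSub_range ψ) (hJ.le.trans (le_span_range ψ))
      ((coinvMap_eq J _).symm.trans (coinv_twist J f hπf a))
  have hsG : ∀ y : A ⧸ J, s y ∈ Submodule.span k {g : A | IsGroupLikeElem k g} := by
    intro y
    obtain ⟨x, rfl⟩ := hsurj y
    rw [hs]
    induction x using MonoidAlgebra.induction_linear with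
    | zero => simp
    | add a b ha hb => rw [map_add]; exact add_mem ha hb
    | single g c =>
      rw [LieKolchin.TrigDiag.charMap_single]
      exact Submodule.smul_mem _ _ (Submodule.subset_span g.isGroupLikeElem_val)
  have hgen : G = ⊤ := by
    refine top_le_iff.mp fun a _ => ?_
    have h1 : toConv r₀ * toConv (f : A →ₐ[k] A) = toConv (AlgHom.id k A) := by
      show (toConv (AlgHom.id k A) * _) * _ = _
      rw [mul_assoc, HopfFF.comp_antipode_left, mul_one]
    have h2 := AlgHom.congr_fun (congrArg WithConv.ofConv h1) a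
    rw [AlgHom.convMul_apply, ofConv_toConv, ofConv_toConv, AlgHom.id_apply] at h2
    rw [← h2]
    generalize Coalgebra.comul (R := k) a = z
    induction z with
    | zero => rw [map_zero]; exact zero_mem _
    | add x y hx hy => rw [map_add]; exact add_mem hx hy
    | tmul x y =>
      rw [Algebra.TensorProduct.lift_tmul]
      obtain ⟨c, hc⟩ := hrange x
      have hy : f y ∈ Submodule.span k {g : A | IsGroupLikeElem k g} := hsG _
      rw [← hc]
      refine (Submodule.map_span_le (LinearMap.mulLeft k (ψ c)) _ G).mpr ?_ (Submodule.mem_map_of_mem hy)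
      exact fun g hg => Submodule.subset_span ⟨c, g, hg, rfl⟩
  refine ⟨hgen, ?_⟩
  let rA : A →ₐ[k] C := (AlgEquiv.ofInjective (ψ : C →ₐ[k] A) hψ).symm.toAlgHom.comp
    (r₀.codRestrict (ψ : C →ₐ[k] A).range hrange)
  have hψr : ∀ a, ψ (rA a) = r₀ a := fun a =>
    congrArg Subtype.val ((AlgEquiv.ofInjective (ψ : C →ₐ[k] A) hψ).apply_symm_apply ⟨r₀ a, hrange a⟩)
  have hr1 : ∀ c g, IsGroupLikeElem k g → rA (ψ c * g) = c := fun c g hg => hψ (by
    rw [hψr, map_mul, hr₀ψ, hr₀g g hg, mul_one])
  let r : A →ₐc[k] C := BialgHom.ofAlgHom rA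
    (AlgHom.toLinearMap_injective (LinearMap.ext_on hgen fun a ha => by
      obtain ⟨c, g, hg, rfl⟩ := ha
      show Coalgebra.counit (R := k) (rA (ψ c * g)) = Coalgebra.counit (R := k) (ψ c * g)
      rw [hr1 c g hg, Bialgebra.counit_mul, hg.counit_eq_one, mul_one, CoalgHomClass.counit_comp_apply]))
    (AlgHom.toLinearMap_injective (LinearMap.ext_on hgen fun a ha => by
      obtain ⟨c, g, hg, rfl⟩ := ha
      show Algebra.TensorProduct.map rA rA (Coalgebra.comul (R := k) (ψ c * g)) = Coalgebra.comul (R := k) (rA (ψ c * g))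
      rw [hr1 c g hg, Bialgebra.comul_mul, hg.comul_eq_tmul_self, ← CoalgHomClass.map_comp_comul_apply ψ c]
      induction Coalgebra.comul (R := k) c with
      | zero => simp
      | add x y hx hy => simp only [map_add, add_mul, hx, hy]
      | tmul x y =>
        rw [TensorProduct.map_tmul, Algebra.TensorProduct.tmul_mul_tmul, Algebra.TensorProduct.map_tmul]
        exact congrArg₂ (· ⊗ₜ[k] ·) (hr1 x g hg) (hr1 y g hg)))
  refine ⟨r, BialgHom.ext fun c => ?_, fun g hg => ?_⟩
  · show rA (ψ c) = c
    rw [← mul_one (ψ c)]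
    exact hr1 c 1 IsGroupLikeElem.one
  · show rA g = 1
    have := hr1 1 g hg
    rwa [map_one, one_mul] at this

end Groth.Agent.MultCentral
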